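import Groth.Agent.EtaleSite.Clopen
import Groth.Agent.EtaleSite.Covers
import Groth.Agent.EtaleSite.Points
import Groth.Agent.EtConsAb.Triv
import Groth.Agent.FEtCat.Sigma
import Mathlib.AlgebraicGeometry.Morphisms.Finite
import Mathlib.AlgebraicGeometry.Morphisms.Etale

/-!
# Local representability of locally constant sheaves
-/

set_option autoImplicit false
set_option backward.isDefEq.respectTransparency.types false
set_option backward.isDefEq.respectTransparency false

universe u

open CategoryTheory CategoryTheory.Limits AlgebraicGeometry Opposite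

noncomputable section

namespace Groth.Agent.LccRepLib

open Groth.Agent Groth.Agent.EtaleSite

variable {X : Scheme.{u}}

/-- Restriction of sections. -/
abbrev res (F : EtCoh.Ab X) {V U : X.Etale} (g : V ⟶ U) (s : F.obj.obj (op U)) :
    F.obj.obj (op V) :=
  F.obj.map g.op s

theorem res_comp (F : EtCoh.Ab X) {W V U : X.Etale} (h : W ⟶ V) (g : V ⟶ U)
    (s : F.obj.obj (op U)) : res F (h ≫ g) s = res F h (res F g s) := by
  simp [res, op_comp, Functor.map_comp]

theorem res_id (F : EtCoh.Ab X) {U : X.Etale} (s : F.obj.obj (op U)) : res F (𝟙 U) s = s := by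
  simp [res]

/-- Morphisms of étale schemes are determined by their underlying maps. -/
theorem etale_hom_ext {U V : X.Etale} {a b : U ⟶ V} (h : a.left = b.left) : a = b :=
  MorphismProperty.Over.Hom.ext h

/-- A morphism of étale schemes factors through an open piece containing its image. -/
def pieceLift {U V : X.Etale} (W : U.left.Opens) (k : V ⟶ U) (h : ∀ v, k.left v ∈ W) :
    V ⟶ piece U W :=
  MorphismProperty.Over.homMk (IsOpenImmersion.lift W.ι k.left (by
      rintro _ ⟨v, rfl⟩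
      exact ((Scheme.Opens.range_ι W).symm ▸ h v : k.left v ∈ Set.range W.ι)))
    (by
      show IsOpenImmersion.lift W.ι k.left _ ≫ W.ι ≫ U.hom = V.hom
      rw [IsOpenImmersion.lift_fac_assoc]
      exact MorphismProperty.Over.w k) trivial

theorem pieceLift_comp {U V : X.Etale} (W : U.left.Opens) (k : V ⟶ U) (h : ∀ v, k.left v ∈ W) :
    pieceLift W k h ≫ pieceHom U W = k :=
  etale_hom_ext (IsOpenImmersion.lift_fac _ _ _)

/-- Morphisms glue along decompositions into disjoint open pieces. -/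
theorem exists_glue_hom {U D : X.Etale} {μ : Type u} (W : μ → U.left.Opens)
    (hd : ∀ a b, a ≠ b → Disjoint (W a) (W b)) (hc : ∀ x : U.left, ∃ a, x ∈ W a)
    (f : ∀ a, piece U (W a) ⟶ D) : ∃ v : U ⟶ D, ∀ a, pieceHom U (W a) ≫ v = f a := by
  let 𝒰 := U.left.openCoverOfIsOpenCover W
    (top_le_iff.mp fun x _ => TopologicalSpace.Opens.mem_iSup.mpr (hc x))
  have hf : ∀ a b, pullback.fst (𝒰.f a) (𝒰.f b) ≫ (f a).left =
      pullback.snd (𝒰.f a) (𝒰.f b) ≫ (f b).left := by
    intro a b
    by_cases hab : a = b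
    · subst hab
      exact congrArg (· ≫ (f a).left)
        ((cancel_mono (W a).ι).1 (pullback.condition (f := (W a).ι) (g := (W a).ι)))
    · haveI : IsEmpty (pullback (𝒰.f a) (𝒰.f b) : Scheme.{u}) := ⟨fun z => by
        have e : (W a).ι (pullback.fst (𝒰.f a) (𝒰.f b) z) =
            (W b).ι (pullback.snd (𝒰.f a) (𝒰.f b) z) :=
          congrArg (fun k => k z)
            (pullback.condition (f := 𝒰.f a) (g := 𝒰.f b))
        exact ((hd a b hab).le_bot (show (W a).ι (pullback.fst (𝒰.f a) (𝒰.f b) z) ∈ W a ⊓ W b from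
          ⟨(pullback.fst (𝒰.f a) (𝒰.f b) z).2, e ▸ (pullback.snd (𝒰.f a) (𝒰.f b) z).2⟩) :
          False)⟩
      exact isInitialOfIsEmpty.hom_ext _ _
  refine ⟨MorphismProperty.Over.homMk (𝒰.glueMorphisms (fun a => (f a).left) hf) ?_ trivial,
    fun a => etale_hom_ext (Scheme.Cover.ι_glueMorphisms 𝒰 _ hf a)⟩
  refine Scheme.Cover.hom_ext 𝒰 _ _ fun a => ?_
  rw [Scheme.Cover.ι_glueMorphisms_assoc]
  exact MorphismProperty.Over.w (f a)

/-- Morphisms are determined on the pieces of a cover. -/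
theorem hom_ext_pieces {U D : X.Etale} {μ : Type u} (W : μ → U.left.Opens)
    (hc : ∀ x : U.left, ∃ a, x ∈ W a) {v w : U ⟶ D}
    (h : ∀ a, pieceHom U (W a) ≫ v = pieceHom U (W a) ≫ w) : v = w :=
  etale_hom_ext (Scheme.Cover.hom_ext (U.left.openCoverOfIsOpenCover W
    (top_le_iff.mp fun x _ => TopologicalSpace.Opens.mem_iSup.mpr (hc x))) _ _
    fun a => congrArg (fun k => k.left) (h a))

/-- Morphisms of étale schemes are étale. -/
theorem etale_left {U V : X.Etale} (k : U ⟶ V) : Etale k.left :=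
  MorphismProperty.of_postcomp (W := @Etale) (W' := @Etale) k.left V.hom V.prop
    (by rw [MorphismProperty.Over.w k]; exact U.prop)

/-- Geometric points lift along morphisms of étale schemes. -/
theorem exists_fiber_lift {Ω : Type u} [Field Ω] [IsSepClosed Ω]
    (ζ : Spec (CommRingCat.of Ω) ⟶ X) {U V : X.Etale} (k : U ⟶ V)
    (φ : (Scheme.pointSmallEtale ζ).fiber.obj V) (u : U.left)
    (hu : k.left u = φ.left (default : Spec (CommRingCat.of Ω))) :
    ∃ ψ : (Scheme.pointSmallEtale ζ).fiber.obj U, (Scheme.pointSmallEtale ζ).fiber.map k ψ = φ := by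
  haveI := etale_left k
  obtain ⟨l, h₁, -⟩ := Scheme.exists_fac_of_etale_of_isSepClosed k.left φ.left u hu
  refine ⟨(Over.homMk l ?_ : Over.mk ζ ⟶ (Scheme.Etale.forget X).obj U), Over.OverMorphism.ext h₁⟩
  show l ≫ U.hom = ζ
  rw [← MorphismProperty.Over.w k, reassoc_of% h₁]
  exact Over.w φ

/-- Sections are determined on a surjective étale cover. -/
theorem res_injective (F : EtCoh.Ab X) {V U : X.Etale} (g : V ⟶ U)
    (hg : Function.Surjective g.left.base) : Function.Injective (res F g) := by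
  intro s t h
  refine (isSheaf_forget F _ (Covers.singleton_mem g hg)).isSeparatedFor.ext ?_
  rintro W k ⟨Z, a, _, ⟨⟩, rfl⟩
  show F.obj.map (a ≫ g).op s = F.obj.map (a ≫ g).op t
  exact (res_comp F a g s).trans ((congrArg (res F a) h).trans (res_comp F a g t).symm)

/-- `(D, ξ)` represents the restriction to `Y` of the subpresheaf `Q` of `F`. -/
structure RepOn (F : EtCoh.Ab X) (Q : ∀ W : X.Etale, F.obj.obj (op W) → Prop) {D Y : X.Etale}
    (π : D ⟶ Y) (ξ : F.obj.obj (op D)) : Prop where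
  stable : ∀ {W' W : X.Etale} (k : W' ⟶ W) (s : F.obj.obj (op W)), Q W s → Q W' (res F k s)
  mem : Q D ξ
  exists_unique : ∀ (W : X.Etale) (g : W ⟶ Y) (s : F.obj.obj (op W)), Q W s →
    ∃! v : W ⟶ D, v ≫ π = g ∧ res F v ξ = s

/-- `(D, ξ)` represents the restriction of `F` to `Y`. -/
abbrev Rep (F : EtCoh.Ab X) {D Y : X.Etale} (π : D ⟶ Y) (ξ : F.obj.obj (op D)) : Prop :=
  RepOn F (fun _ _ => True) π ξ

section Coprod

variable {I : Type u} (V : I → X.Etale)

/-- A disjoint union of étale schemes. -/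
def sigma : X.Etale :=
  haveI : Etale (Sigma.desc fun i => (V i).hom) :=
    IsZariskiLocalAtSource.sigmaDesc fun i => (V i).prop
  Scheme.Etale.mk (Sigma.desc fun i => (V i).hom)

/-- The inclusion of a member of a disjoint union. -/
def sigmaι (i : I) : V i ⟶ sigma V :=
  MorphismProperty.Over.homMk (Sigma.ι (fun i => (V i).left) i) (Sigma.ι_desc _ _) trivial

/-- Maps out of a disjoint union. -/
def sigmaDesc {D : X.Etale} (f : ∀ i, V i ⟶ D) : sigma V ⟶ D :=
  MorphismProperty.Over.homMk (Sigma.desc fun i => (f i).left)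
    (Sigma.hom_ext _ _ fun i => by
      rw [Sigma.ι_desc_assoc]
      exact (MorphismProperty.Over.w (f i)).trans
        (Sigma.ι_desc (fun j => (V j).hom) i).symm) trivial

theorem sigmaι_desc {D : X.Etale} (f : ∀ i, V i ⟶ D) (i : I) :
    sigmaι V i ≫ sigmaDesc V f = f i :=
  etale_hom_ext (Sigma.ι_desc _ _)

instance (i : I) : IsOpenImmersion (sigmaι V i).left :=
  inferInstanceAs (IsOpenImmersion (Sigma.ι (fun i => (V i).left) i))

/-- The members of a disjoint union as opens. -/
def sigmaOpen (i : I) : (sigma V).left.Opens := (sigmaι V i).left.opensRange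

theorem sigmaι_mem (i : I) (v : (V i).left) : (sigmaι V i).left v ∈ sigmaOpen V i := ⟨v, rfl⟩

theorem disjoint_sigmaOpen (i j : I) (h : i ≠ j) : Disjoint (sigmaOpen V i) (sigmaOpen V j) :=
  disjoint_opensRange_sigmaι (fun i => (V i).left) i j h

theorem exists_mem_sigmaOpen (x : (sigma V).left) : ∃ i, x ∈ sigmaOpen V i := by
  obtain ⟨i, y, hy⟩ := (sigmaOpenCover fun i => (V i).left).exists_eq x
  exact ⟨i, y, hy⟩

/-- A morphism into a disjoint union factors on the preimage of a member. -/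
theorem exists_lift_piece {W : X.Etale} (g : W ⟶ sigma V) (O : W.left.Opens) (i : I)
    (h : ∀ w ∈ O, g.left w ∈ sigmaOpen V i) :
    ∃ k : piece W O ⟶ V i, k ≫ sigmaι V i = pieceHom W O ≫ g := by
  refine ⟨MorphismProperty.Over.homMk (IsOpenImmersion.lift (sigmaι V i).left (O.ι ≫ g.left)
    (by rintro _ ⟨w, rfl⟩; exact h _ w.2)) ?_ trivial,
    etale_hom_ext (IsOpenImmersion.lift_fac _ _ _)⟩
  show _ = O.ι ≫ W.hom
  rw [← MorphismProperty.Over.w (sigmaι V i), IsOpenImmersion.lift_fac_assoc, Category.assoc,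
    MorphismProperty.Over.w g]

/-- Sections over a disjoint union glue. -/
theorem exists_sigma_sect (F : EtCoh.Ab X) (s : ∀ i, F.obj.obj (op (V i))) :
    ∃ t : F.obj.obj (op (sigma V)), ∀ i, res F (sigmaι V i) t = s i := by
  have hk : ∀ i, ∃ k : piece (sigma V) (sigmaOpen V i) ⟶ V i,
      k ≫ sigmaι V i = pieceHom (sigma V) (sigmaOpen V i) := fun i => by
    obtain ⟨k, hk⟩ := exists_lift_piece V (𝟙 _) (sigmaOpen V i) i fun w hw => hw
    exact ⟨k, hk.trans (Category.comp_id _)⟩
  choose k hk using hk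
  obtain ⟨t, ht⟩ := exists_glue_disjoint F (sigmaOpen V) (disjoint_sigmaOpen V)
    (exists_mem_sigmaOpen V) fun i => res F (k i) (s i)
  refine ⟨t, fun i => ?_⟩
  have e : sigmaι V i = pieceLift (sigmaOpen V i) (sigmaι V i) (sigmaι_mem V i) ≫
      pieceHom _ _ := (pieceLift_comp _ _ _).symm
  rw [e, res_comp]
  rw [show res F (pieceHom _ (sigmaOpen V i)) t = res F (k i) (s i) from ht i, ← res_comp]
  have : pieceLift (sigmaOpen V i) (sigmaι V i) (sigmaι_mem V i) ≫ k i = 𝟙 _ := by
    refine etale_hom_ext ((cancel_mono (sigmaι V i).left).1 ?_)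
    have h := congrArg (fun q => pieceLift (sigmaOpen V i) (sigmaι V i) (sigmaι_mem V i) ≫ q) (hk i)
    simp only [pieceLift_comp] at h
    exact congrArg (fun q => q.left)
      ((Category.assoc _ _ _).trans (h.trans (Category.id_comp _).symm))
  rw [this, res_id]

end Coprod

/-- Representing objects combine along disjoint unions. -/
theorem rep_sigma (F : EtCoh.Ab X) {I : Type u} (V D : I → X.Etale) (π : ∀ i, D i ⟶ V i)
    (Q : ∀ W : X.Etale, F.obj.obj (op W) → Prop)
    (hQ : ∀ {W' W : X.Etale} (k : W' ⟶ W) (s : F.obj.obj (op W)), Q W s → Q W' (res F k s))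
    (ξ : ∀ i, F.obj.obj (op (D i))) (h : ∀ i, RepOn F Q (π i) (ξ i))
    (η : F.obj.obj (op (sigma D))) (hη : ∀ i, res F (sigmaι D i) η = ξ i) (hmem : Q _ η) :
    RepOn F Q (sigmaDesc D fun i => π i ≫ sigmaι V i) η := by
  refine ⟨hQ, hmem, fun W g s hs => ?_⟩
  let O : I → W.left.Opens := fun i => g.left ⁻¹ᵁ sigmaOpen V i
  have hd : ∀ a b, a ≠ b → Disjoint (O a) (O b) := fun a b hab => by
    rw [disjoint_iff]
    refine le_bot_iff.mp fun w hw => ?_
    exact ((disjoint_sigmaOpen V a b hab).le_bot (show g.left w ∈ _ from hw) : False).elim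
  have hc : ∀ x, ∃ a, x ∈ O a := fun x => exists_mem_sigmaOpen V (g.left x)
  choose k hk using fun i => exists_lift_piece V g (O i) i fun w hw => hw
  choose v hv huniq using fun i =>
    (h i).exists_unique _ (k i) (res F (pieceHom W (O i)) s) (hQ _ _ hs)
  obtain ⟨w, hw⟩ := exists_glue_hom O hd hc fun i => v i ≫ sigmaι D i
  refine ⟨w, ⟨hom_ext_pieces O hc fun i => ?_, eq_of_pieces F O hc _ _ fun i => ?_⟩, fun w' hw' =>
    hom_ext_pieces O hc fun i => ?_⟩
  · rw [reassoc_of% (hw i), sigmaι_desc, reassoc_of% (hv i).1, hk i]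
  · show res F _ (res F w η) = res F _ s
    rw [← res_comp, hw i, res_comp, hη i]
    exact (hv i).2
  · have hmem : ∀ x ∈ O i, w'.left x ∈ sigmaOpen D i := fun x hx => by
      obtain ⟨j, d, hd'⟩ := exists_mem_sigmaOpen D (w'.left x)
      by_cases hji : j = i
      · exact ⟨hji ▸ d, by subst hji; exact hd'⟩
      · exfalso
        have e : g.left x ∈ sigmaOpen V j := by
          rw [← hw'.1, CategoryTheory.MorphismProperty.Comma.comp_left, Scheme.Hom.comp_apply,
            ← hd', ← Scheme.Hom.comp_apply, ← CategoryTheory.MorphismProperty.Comma.comp_left,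
            sigmaι_desc]
          exact ⟨(π j).left d, rfl⟩
        exact (disjoint_sigmaOpen V j i hji).le_bot ⟨e, hx⟩
    obtain ⟨v', hv'⟩ := exists_lift_piece D w' (O i) i hmem
    rw [← hv', hw i]
    refine congrArg (· ≫ sigmaι D i) (huniq i v' ⟨?_, ?_⟩)
    · refine etale_hom_ext ((cancel_mono (sigmaι V i).left).1 ?_)
      have e : (v' ≫ π i) ≫ sigmaι V i = k i ≫ sigmaι V i := by
        rw [hk i, ← hw'.1, ← reassoc_of% hv', sigmaι_desc, Category.assoc]
      exact congrArg (fun q => q.left) e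
    · rw [← hη i, ← res_comp, hv', res_comp, hw'.2]

/-- A trivialisation gives a representing disjoint union of copies. -/
theorem exists_rep_triv (F : EtCoh.Ab X) {V : X.Etale} {M : Type (u + 1)} [AddCommGroup M]
    {ι : Type u} (e : ι ≃ M) {m : M →+ F.obj.obj (op V)} (h : EtConsAb.IsTriv F V M m) :
    ∃ ξ : F.obj.obj (op (sigma fun _ : ι => V)),
      Rep F (sigmaDesc (fun _ : ι => V) fun _ => 𝟙 V) ξ := by
  obtain ⟨ξ, hξ⟩ := exists_sigma_sect (fun _ : ι => V) F fun a => m (e a)
  refine ⟨ξ, fun _ _ _ => trivial, trivial, fun W g s _ => ?_⟩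
  -- at a point, the value is determined
  have key : ∀ (w : W.left) (a b : ι) (W₁ : X.Etale) (k₁ : W₁ ⟶ W) (w₁ : W₁.left)
      (W₂ : X.Etale) (k₂ : W₂ ⟶ W) (w₂ : W₂.left) (t : F.obj.obj (op W)),
      k₁.left w₁ = w → k₂.left w₂ = w → res F k₁ t = res F k₁ (res F g (m (e a))) →
      res F k₂ t = res F k₂ (res F g (m (e b))) → a = b := by
    intro w a b W₁ k₁ w₁ W₂ k₂ w₂ t h₁ h₂ e₁ e₂
    let ζ := geomPointAt X (W.hom w)
    obtain ⟨φ, hφ⟩ := exists_fiber_point ζ W w (geomPointAt_apply X (W.hom w) _).symm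
    have hk : ∀ (W' : X.Etale) (k : W' ⟶ W) (w' : W'.left) (c : ι), k.left w' = w →
        res F k t = res F k (res F g (m (e c))) →
        ∀ ψ : (Scheme.pointSmallEtale ζ).fiber.obj W', (Scheme.pointSmallEtale ζ).fiber.map k ψ = φ →
          germ ζ F W φ t = germ ζ F W φ (res F g (m (e c))) := by
      intro W' k w' c _ ec ψ hψ
      rw [← hψ, ← germ_res, ← germ_res]
      exact congrArg (germ ζ F W' ψ) ec
    obtain ⟨ψ₁, hψ₁⟩ := exists_fiber_lift ζ k₁ φ w₁ (h₁.trans hφ.symm)
    obtain ⟨ψ₂, hψ₂⟩ := exists_fiber_lift ζ k₂ φ w₂ (h₂.trans hφ.symm)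
    have := (hk W₁ k₁ w₁ a h₁ e₁ ψ₁ hψ₁).symm.trans (hk W₂ k₂ w₂ b h₂ e₂ ψ₂ hψ₂)
    rw [germ_res, germ_res] at this
    exact e.injective ((h _ ζ _).1 this)
  let O : ι → W.left.Opens := fun a =>
    ⟨{w | ∃ (W' : X.Etale) (k : W' ⟶ W) (w' : W'.left), k.left w' = w ∧
      res F k s = res F k (res F g (m (e a)))}, by
      rw [isOpen_iff_forall_mem_open]
      rintro w ⟨W', k, w', hw, hk⟩
      haveI : Etale k.left := etale_left k
      exact ⟨Set.range k.left, fun _ ⟨y, hy⟩ => ⟨W', k, y, hy, hk⟩,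
        k.left.isOpenMap.isOpen_range, w', hw⟩⟩
  have hd : ∀ a b, a ≠ b → Disjoint (O a) (O b) := fun a b hab => by
    rw [disjoint_iff]
    refine le_bot_iff.mp fun w hw => ?_
    obtain ⟨⟨W₁, k₁, w₁, h₁, e₁⟩, W₂, k₂, w₂, h₂, e₂⟩ := hw
    exact (hab (key w a b W₁ k₁ w₁ W₂ k₂ w₂ s h₁ h₂ e₁ e₂)).elim
  have hc : ∀ w : W.left, ∃ a, w ∈ O a := by
    intro w
    let ζ := geomPointAt X (W.hom w)
    obtain ⟨φ, hφ⟩ := exists_fiber_point ζ W w (geomPointAt_apply X (W.hom w) _).symm
    obtain ⟨x, hx⟩ := (h _ ζ ((Scheme.pointSmallEtale ζ).fiber.map g φ)).2 (germ ζ F W φ s)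
    simp only [← germ_res] at hx
    obtain ⟨W', k, y, hy, hk⟩ := (germ_eq_iff ζ F W φ _ _).1 hx
    refine ⟨e.symm x, W', k, y.left (default : Spec (CommRingCat.of _)), ?_, ?_⟩
    · exact (congrArg (fun q => q.left (default : Spec (CommRingCat.of _))) hy).trans hφ
    · rw [Equiv.apply_symm_apply]; exact hk.symm
  have hpiece : ∀ a, res F (pieceHom W (O a)) s = res F (pieceHom W (O a)) (res F g (m (e a))) := by
    intro a
    have hS : Presheaf.equalizerSieve (F := F.obj) (res F (pieceHom W (O a)) s)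
        (res F (pieceHom W (O a)) (res F g (m (e a)))) ∈ X.smallEtaleTopology (piece W (O a)) := by
      refine mem_topology_of_forall_exists _ fun w => ?_
      obtain ⟨W', k, w', hw, hk⟩ := w.2
      have hO : ∀ y, k.left y ∈ O a := fun y => ⟨W', k, y, rfl, hk⟩
      refine ⟨W', pieceLift (O a) k hO, w', ?_, ?_⟩
      · show res F _ (res F _ s) = res F _ (res F _ _)
        rw [← res_comp, ← res_comp, pieceLift_comp]
        exact hk
      · exact Subtype.ext ((congrArg (fun q => q.left w') (pieceLift_comp (O a) k hO)).trans hw)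
    exact (isSheaf_forget F _ hS).isSeparatedFor.ext fun _ _ hf => hf
  obtain ⟨v, hv⟩ := exists_glue_hom O hd hc fun a =>
    pieceHom W (O a) ≫ g ≫ sigmaι (fun _ : ι => V) a
  refine ⟨v, ⟨hom_ext_pieces O hc fun a => ?_, eq_of_pieces F O hc _ _ fun a => ?_⟩,
    fun v' hv' => hom_ext_pieces O hc fun a => ?_⟩
  · rw [reassoc_of% (hv a), sigmaι_desc, Category.comp_id]
  · show res F _ (res F v ξ) = res F _ s
    rw [← res_comp, hv a, res_comp, res_comp, hξ a]
    exact (hpiece a).symm
  · have hmem : ∀ w ∈ O a, v'.left w ∈ sigmaOpen (fun _ : ι => V) a := by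
      intro w hw
      obtain ⟨b, hb⟩ := exists_mem_sigmaOpen (fun _ : ι => V) (v'.left w)
      suffices b = a by rwa [← this]
      obtain ⟨W₁, k₁, w₁, h₁, e₁⟩ := hw
      let P := v'.left ⁻¹ᵁ sigmaOpen (fun _ : ι => V) b
      obtain ⟨q, hq⟩ := exists_lift_piece (fun _ : ι => V) v' P b fun _ hx => hx
      have hqg : q = pieceHom W P ≫ g := by
        rw [← hv'.1, ← reassoc_of% hq, sigmaι_desc, Category.comp_id]
      refine key w b a (piece W P) (pieceHom W P) ⟨w, hb⟩ W₁ k₁ w₁ s rfl h₁ ?_ e₁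
      rw [← hv'.2, ← res_comp, ← hq, res_comp, hξ b, hqg, res_comp]
    obtain ⟨q, hq⟩ := exists_lift_piece (fun _ : ι => V) v' (O a) a hmem
    rw [← hq, hv a, ← Category.assoc]
    congr 1
    rw [← hv'.1, ← reassoc_of% hq, sigmaι_desc, Category.comp_id]

/-- Disjoint unions of finite morphisms are finite. -/
theorem isFinite_sigmaDesc {I : Type u} (V D : I → X.Etale) (π : ∀ i, D i ⟶ V i)
    [∀ i, IsFinite (π i).left] : IsFinite (sigmaDesc D fun i => π i ≫ sigmaι V i).left := by
  let f := (sigmaDesc D fun i => π i ≫ sigmaι V i).left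
  refine (IsZariskiLocalAtTarget.iff_of_openCover (P := @IsFinite)
    (sigmaOpenCover fun i => (V i).left)).2 fun i => ?_
  have hw : (sigmaι D i).left ≫ f = (π i).left ≫ (sigmaι V i).left :=
    congrArg (fun q => q.left) (sigmaι_desc D (fun i => π i ≫ sigmaι V i) i)
  have hsq : IsPullback (π i).left (sigmaι D i).left (sigmaι V i).left f := by
    refine IsOpenImmersion.isPullback _ _ _ _ hw ?_
    apply TopologicalSpace.Opens.ext
    ext d
    constructor
    · intro hd
      obtain ⟨j, hj⟩ := exists_mem_sigmaOpen D d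
      by_cases hji : j = i
      · subst hji; exact hj
      · exfalso
        obtain ⟨y, rfl⟩ := hj
        have e : f ((sigmaι D j).left y) ∈ sigmaOpen V j :=
          ⟨(π j).left y, (congrArg (fun q : (D j).left ⟶ _ => q y)
            (congrArg (fun q => q.left) (sigmaι_desc D (fun i => π i ≫ sigmaι V i) j))).symm⟩
        exact (disjoint_sigmaOpen V j i hji).le_bot ⟨e, hd⟩
    · rintro ⟨y, rfl⟩
      exact ⟨(π i).left y, (congrArg (fun q => q y) hw).symm⟩
  show IsFinite (pullback.snd f (sigmaι V i).left)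
  rw [← hsq.flip.isoPullback_inv_snd]
  infer_instance

/-- The fold map of a finite disjoint union is finite. -/
theorem isFinite_fold {V : X.Etale} {ι : Type u} [Finite ι] :
    IsFinite (sigmaDesc (fun _ : ι => V) fun _ => 𝟙 V).left := by
  exact Groth.Agent.FEtCat.Sigma.isFinite_fold (Y := V.left) (α := ι)

end Groth.Agent.LccRepLib
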