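import Groth.Agent.LccRepLib.Local
import Groth.Agent.SGA1Desc.SubtrEff
import Groth.Agent.SGA1Desc.OpenEff
import Groth.Agent.FpqcDesc.Props

/-!
# Representability of locally representable étale sheaves by descent
-/

set_option autoImplicit false
set_option linter.style.haveILetI false
set_option maxHeartbeats 800000
set_option backward.isDefEq.respectTransparency.types false
set_option backward.isDefEq.respectTransparency false

universe u

open CategoryTheory CategoryTheory.Limits AlgebraicGeometry Opposite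

noncomputable section

namespace Groth.Agent.LccRepLib

open Groth.Agent Groth.Agent.EtaleSite

/-- Étale separated quasi-compact descent data along étale surjections are effective. -/
theorem exists_eff_etale_cover {S Y : Scheme.{u}} {g : Y ⟶ S} [Etale g] [Surjective g]
    (D : Desc.SchDD g) [Etale D.obj.hom] [IsSeparated D.obj.hom] [QuasiCompact D.obj.hom] :
    Nonempty (SGA1Desc.Eff D (𝟙 S)) := by
  classical
  refine SGA1Desc.exists_eff_of_openCover D (SGA1Desc.univSubmersive_of_open g) fun s => ?_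
  obtain ⟨_, ⟨V, hVa, rfl⟩, hs, -⟩ := S.isBasis_affineOpens.exists_subset_of_mem_open
    (Set.mem_univ s) isOpen_univ
  refine ⟨V, hs, ?_⟩
  let A : Type u := Γ(S, V)
  let j : Spec (CommRingCat.of A) ⟶ S := hVa.fromSpec
  let X₁ := pullback g j
  let g₁ : X₁ ⟶ Spec (CommRingCat.of A) := pullback.snd g j
  haveI : Etale g₁ := MorphismProperty.pullback_snd g j ‹Etale g›
  haveI : Surjective g₁ := MorphismProperty.pullback_snd g j ‹Surjective g›
  obtain ⟨t, ht⟩ := isCompact_univ.elim_finite_subcover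
    (fun W : X₁.affineOpens => g₁.base '' (W.1 : Set X₁)) (fun W => g₁.isOpenMap _ W.1.2)
    (fun a _ => by
      obtain ⟨x, rfl⟩ := g₁.surjective a
      obtain ⟨_, ⟨W, hW, rfl⟩, hx, -⟩ := X₁.isBasis_affineOpens.exists_subset_of_mem_open
        (Set.mem_univ x) isOpen_univ
      exact Set.mem_iUnion.2 ⟨⟨W, hW⟩, x, hx, rfl⟩)
  haveI : ∀ i : t, IsAffine (i.1.1 : Scheme.{u}) := fun i => i.1.2
  let c : (∐ fun i : t => (i.1.1 : Scheme.{u})) ⟶ X₁ := Sigma.desc fun i : t => i.1.1.ι
  haveI : Etale c := IsZariskiLocalAtSource.sigmaDesc fun i => inferInstance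
  let g₂ := c ≫ g₁
  haveI : Etale g₂ := inferInstance
  haveI : Surjective g₂ := ⟨fun a => by
    obtain ⟨W, hW, x, hx, rfl⟩ := Set.mem_iUnion₂.1 (ht (Set.mem_univ a))
    refine ⟨(Sigma.ι (fun i : t => (i.1.1 : Scheme.{u})) ⟨W, hW⟩).base ⟨x, hx⟩, ?_⟩
    show g₁.base (c.base _) = _
    rw [← Scheme.Hom.comp_apply (Sigma.ι (fun i : t => (i.1.1 : Scheme.{u})) ⟨W, hW⟩) c,
      Sigma.ι_desc]
    rfl⟩
  haveI : IsAffine (∐ fun i : t => (i.1.1 : Scheme.{u})) := inferInstance
  haveI : QuasiCompact g₂ := quasiCompact_of_compactSpace g₂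
  haveI : QuasiSeparated g₂ := QuasiSeparated.of_quasiSeparatedSpace g₂
  have hg₂ : Subtr.UnivSSubtrusive g₂ := SubtrLib.univSSubtrusive_of_flat_surjective g₂
  let D₂ := SGA1Desc.pullDatum D g₂ (c ≫ pullback.fst g j) j (by
    simp only [g₂, g₁, Category.assoc, pullback.condition])
  haveI : QuasiCompact D₂.obj.hom := MorphismProperty.pullback_snd _ _ ‹QuasiCompact D.obj.hom›
  haveI : IsSeparated D₂.obj.hom := MorphismProperty.pullback_snd _ _ ‹IsSeparated D.obj.hom›
  haveI : Etale D₂.obj.hom := MorphismProperty.pullback_snd _ _ ‹Etale D.obj.hom›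
  obtain ⟨E₂⟩ := SGA1Desc.exists_eff_affine D₂ hg₂
  obtain ⟨E⟩ := SGA1Desc.exists_eff_of_pullDatum D g₂ (c ≫ pullback.fst g j) j _
    (SGA1Desc.univSubmersive_of_open g₂) E₂
  exact ⟨E.pull hVa.isoSpec.hom _ (by
    rw [Category.id_comp]; exact hVa.isoSpec_hom_fromSpec)⟩

variable {X : Scheme.{u}} {F : EtCoh.Ab X} {Q : ∀ W : X.Etale, F.obj.obj (op W) → Prop}
  {Y D : X.Etale} {π : D ⟶ Y} {ξ : F.obj.obj (op D)}

/-- The fibre product over `X` of two étale schemes. -/
def prod (A B : X.Etale) : X.Etale :=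
  haveI : Etale A.hom := A.prop
  haveI : Etale B.hom := B.prop
  haveI : Etale (pullback.fst A.hom B.hom ≫ A.hom) := inferInstance
  Scheme.Etale.mk (pullback.fst A.hom B.hom ≫ A.hom)

/-- First projection. -/
def prodFst (A B : X.Etale) : prod A B ⟶ A :=
  MorphismProperty.Over.homMk (pullback.fst A.hom B.hom) rfl trivial

/-- Second projection. -/
def prodSnd (A B : X.Etale) : prod A B ⟶ B :=
  MorphismProperty.Over.homMk (pullback.snd A.hom B.hom) pullback.condition.symm trivial

/-- Maps into the fibre product. -/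
def prodLift {A B C : X.Etale} (f : C ⟶ A) (g : C ⟶ B) : C ⟶ prod A B :=
  MorphismProperty.Over.homMk (pullback.lift f.left g.left
    (by rw [MorphismProperty.Over.w f, MorphismProperty.Over.w g]))
    (by
      show pullback.lift f.left g.left _ ≫ pullback.fst A.hom B.hom ≫ A.hom = C.hom
      rw [pullback.lift_fst_assoc, MorphismProperty.Over.w f]) trivial

theorem prodLift_fst {A B C : X.Etale} (f : C ⟶ A) (g : C ⟶ B) :
    prodLift f g ≫ prodFst A B = f :=
  etale_hom_ext (pullback.lift_fst _ _ _)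

theorem prodLift_snd {A B C : X.Etale} (f : C ⟶ A) (g : C ⟶ B) :
    prodLift f g ≫ prodSnd A B = g :=
  etale_hom_ext (pullback.lift_snd _ _ _)

variable (h : RepOn F Q π ξ)

/-- The transition map `D ×_X Y ⟶ D`. -/
def psi : prod D Y ⟶ D :=
  (h.exists_unique (prod D Y) (prodSnd D Y) (res F (prodFst D Y) ξ) (h.stable _ _ h.mem)).choose

theorem psi_comp : psi h ≫ π = prodSnd D Y :=
  (h.exists_unique (prod D Y) (prodSnd D Y) (res F (prodFst D Y) ξ) (h.stable _ _ h.mem)).choose_spec.1.1

theorem psi_res : res F (psi h) ξ = res F (prodFst D Y) ξ :=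
  (h.exists_unique (prod D Y) (prodSnd D Y) (res F (prodFst D Y) ξ) (h.stable _ _ h.mem)).choose_spec.1.2

theorem rep_ext {W : X.Etale} {v w : W ⟶ D} (h₁ : v ≫ π = w ≫ π)
    (h₂ : res F v ξ = res F w ξ) (h : RepOn F Q π ξ) : v = w :=
  (h.exists_unique W (w ≫ π) (res F w ξ) (h.stable _ _ h.mem)).unique ⟨h₁, h₂⟩ ⟨rfl, rfl⟩

theorem lifts_hom {T : Scheme.{u}} {x₀ : T ⟶ Y.left} (v : Desc.Lifts (Over.mk π.left) x₀) :
    v.1 ≫ D.hom = x₀ ≫ Y.hom :=
  (congrArg (v.1 ≫ ·) (MorphismProperty.Over.w π).symm).trans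
    ((Category.assoc _ _ _).symm.trans (congrArg (· ≫ Y.hom) v.2))

/-- The transition on points. -/
def tr {T : Scheme.{u}} (x₀ x₁ : T ⟶ Y.left) (hx : x₀ ≫ Y.hom = x₁ ≫ Y.hom)
    (v : Desc.Lifts (Over.mk π.left) x₀) : Desc.Lifts (Over.mk π.left) x₁ :=
  ⟨pullback.lift v.1 x₁ ((lifts_hom v).trans hx) ≫ (psi h).left, by
    show (_ ≫ (psi h).left) ≫ π.left = x₁
    rw [Category.assoc, show (psi h).left ≫ π.left = pullback.snd D.hom Y.hom from
      congrArg (fun q => q.left) (psi_comp h)]
    exact pullback.lift_snd _ _ _⟩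

theorem tr_self {T : Scheme.{u}} (x : T ⟶ Y.left) (v : Desc.Lifts (Over.mk π.left) x) :
    tr h x x rfl v = v := by
  have e : prodLift (𝟙 D) π ≫ psi h = 𝟙 D := rep_ext
    (by rw [Category.assoc, psi_comp, prodLift_snd, Category.id_comp])
    (by rw [res_comp, psi_res, ← res_comp, prodLift_fst]) h
  have e' : pullback.lift (𝟙 D.left) π.left
      (by rw [Category.id_comp, MorphismProperty.Over.w π]) ≫ (psi h).left = 𝟙 D.left :=
    congrArg (fun q => q.left) e
  refine Subtype.ext ?_
  show pullback.lift v.1 x _ ≫ (psi h).left = v.1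
  refine Eq.trans ?_ ((congrArg (v.1 ≫ ·) e').trans (Category.comp_id _))
  refine Eq.trans ?_ (Category.assoc _ _ _)
  congr 1
  refine pullback.hom_ext ?_ ?_
  · rw [Category.assoc, pullback.lift_fst, pullback.lift_fst]
    exact (Category.comp_id v.1).symm
  · rw [Category.assoc, pullback.lift_snd, pullback.lift_snd]
    exact v.2.symm

theorem tr_comp {T : Scheme.{u}} (x₀ x₁ x₂ : T ⟶ Y.left) (h₀₁ : x₀ ≫ Y.hom = x₁ ≫ Y.hom)
    (h₁₂ : x₁ ≫ Y.hom = x₂ ≫ Y.hom) (v : Desc.Lifts (Over.mk π.left) x₀) :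
    tr h x₁ x₂ h₁₂ (tr h x₀ x₁ h₀₁ v) = tr h x₀ x₂ (h₀₁.trans h₁₂) v := by
  let E := prod (prod D Y) Y
  let l₁ : E ⟶ D := prodLift (prodFst (prod D Y) Y ≫ psi h) (prodSnd (prod D Y) Y) ≫ psi h
  let l₂ : E ⟶ D :=
    prodLift (prodFst (prod D Y) Y ≫ prodFst D Y) (prodSnd (prod D Y) Y) ≫ psi h
  have e : l₁ = l₂ := rep_ext
    (by simp only [l₁, l₂, Category.assoc, psi_comp, prodLift_snd])
    (by
      simp only [l₁, l₂]
      rw [res_comp, res_comp, psi_res, ← res_comp, ← res_comp, prodLift_fst, prodLift_fst,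
        res_comp, psi_res, ← res_comp]) h
  have c₀ : v.1 ≫ D.hom = x₁ ≫ Y.hom := (lifts_hom v).trans h₀₁
  let a : T ⟶ E.left := pullback.lift (pullback.lift v.1 x₁ c₀) x₂ (by
    show pullback.lift v.1 x₁ c₀ ≫ pullback.fst D.hom Y.hom ≫ D.hom = _
    rw [pullback.lift_fst_assoc, c₀, h₁₂])
  refine Subtype.ext ?_
  have ha₁ : a ≫ (prodFst (prod D Y) Y).left = pullback.lift v.1 x₁ c₀ := pullback.lift_fst _ _ _
  have ha₂ : a ≫ (prodSnd (prod D Y) Y).left = x₂ := pullback.lift_snd _ _ _
  have e' : a ≫ l₁.left = a ≫ l₂.left := by rw [e]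
  show pullback.lift (pullback.lift v.1 x₁ _ ≫ (psi h).left) x₂ _ ≫ (psi h).left =
    pullback.lift v.1 x₂ _ ≫ (psi h).left
  refine Eq.trans ?_ (e'.trans ?_)
  · show _ = a ≫ (prodLift _ _).left ≫ (psi h).left
    rw [← Category.assoc]
    congr 1
    refine pullback.hom_ext ?_ ?_
    · rw [pullback.lift_fst, Category.assoc]
      refine Eq.trans ?_ (congrArg (a ≫ ·) (pullback.lift_fst _ _ _).symm)
      exact (congrArg (· ≫ (psi h).left) ha₁.symm).trans (Category.assoc _ _ _)
    · rw [pullback.lift_snd, Category.assoc]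
      exact ha₂.symm.trans (congrArg (a ≫ ·) (pullback.lift_snd _ _ _).symm)
  · show a ≫ (prodLift _ _).left ≫ (psi h).left = _
    rw [← Category.assoc]
    congr 1
    refine pullback.hom_ext ?_ ?_
    · rw [pullback.lift_fst, Category.assoc]
      refine (congrArg (a ≫ ·) (pullback.lift_fst _ _ _)).trans ?_
      show a ≫ (prodFst (prod D Y) Y).left ≫ (prodFst D Y).left = v.1
      rw [reassoc_of% ha₁]
      exact pullback.lift_fst _ _ _
    · rw [pullback.lift_snd, Category.assoc]
      exact (congrArg (a ≫ ·) (pullback.lift_snd _ _ _)).trans ha₂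

/-- The descent datum of a locally representable sheaf. -/
def datum : Desc.SchDD Y.hom where
  obj := Over.mk π.left
  φ T x₀ x₁ hx :=
    { toFun := tr h x₀ x₁ hx
      invFun := tr h x₁ x₀ hx.symm
      left_inv := fun v => (tr_comp h x₀ x₁ x₀ hx hx.symm v).trans (tr_self h x₀ v)
      right_inv := fun v => (tr_comp h x₁ x₀ x₁ hx.symm hx v).trans (tr_self h x₁ v) }
  φ_natural T T' k x₀ x₁ hx hx' v v' hv := by
    show pullback.lift v'.1 (k ≫ x₁) _ ≫ (psi h).left =
      k ≫ pullback.lift v.1 x₁ _ ≫ (psi h).left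
    rw [← Category.assoc k]
    congr 1
    refine pullback.hom_ext ?_ ?_ <;> simp [hv]
  φ_self T x v := tr_self h x v
  φ_comp T x₀ x₁ x₂ h₀₁ h₁₂ v := tr_comp h x₀ x₁ x₂ h₀₁ h₁₂ v

/-- A locally representable local subpresheaf is representable when the representing scheme is
finite. -/
theorem exists_repr' [Surjective Y.hom] [IsFinite π.left] (h : RepOn F Q π ξ)
    (hQ : ∀ {V U : X.Etale} (k : V ⟶ U) (s : F.obj.obj (op U)),
      Function.Surjective k.left.base → Q V (res F k s) → Q U s) :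
    ∃ (U : X.Etale) (_ : IsFinite U.hom) (η : F.obj.obj (op U)), Q U η ∧
      (∀ (W : X.Etale) (a b : W ⟶ U), res F a η = res F b η → a = b) ∧
      ∀ (W : X.Etale) (s : F.obj.obj (op W)), Q W s → ∃ a : W ⟶ U, res F a η = s := by
  haveI : Etale Y.hom := Y.prop
  haveI : Etale π.left := etale_left π
  haveI : Etale (datum h).obj.hom := ‹Etale π.left›
  haveI : IsSeparated (datum h).obj.hom := inferInstanceAs (IsSeparated π.left)
  haveI : QuasiCompact (datum h).obj.hom := inferInstanceAs (QuasiCompact π.left)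
  obtain ⟨E⟩ := exists_eff_etale_cover (datum h)
  haveI := E.etale
  let δ := pullback.fst ((datum h).obj.hom ≫ Y.hom) (𝟙 X)
  haveI : IsIso δ := inferInstanceAs (IsIso (pullback.fst ((datum h).obj.hom ≫ Y.hom) (𝟙 X)))
  have hδ : δ ≫ π.left ≫ Y.hom = pullback.snd _ _ := pullback.condition.trans (Category.comp_id _)
  let q : D.left ⟶ E.base := inv δ ≫ E.q
  have hsq : IsPullback q π.left E.str Y.hom := by
    have := E.isPullback
    rw [Category.comp_id] at this
    exact IsPullback.of_iso this (asIso δ) (Iso.refl _) (Iso.refl _) (Iso.refl _)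
      (by simp [q]) (by simp [δ]; rfl) (by simp) (by simp)
  have hcompat : ∀ ⦃T : Scheme.{u}⦄ (a b : T ⟶ D.left),
      SGA1Desc.Rel (datum h) a b → a ≫ q = b ≫ q := by
    intro T a b hab
    simp only [q, ← Category.assoc]
    refine E.compat _ _ (by simpa [δ] using hab) ?_
    have h3 : ∀ c : T ⟶ D.left,
        (c ≫ inv δ) ≫ pullback.snd ((datum h).obj.hom ≫ Y.hom) (𝟙 X) =
          (c ≫ π.left) ≫ Y.hom := fun c => by
      rw [← hδ]; simp
    exact (h3 a).trans (hab.1.trans (h3 b).symm)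
  haveI : IsFinite E.str := by
    haveI := FpqcDesc.descendsAlong_isFinite.{u}
    exact MorphismProperty.of_pullback_snd_of_descendsAlong
      (Q := @Surjective ⊓ @Flat ⊓ @LocallyOfFinitePresentation) (f := E.str) (g := Y.hom)
      ⟨⟨‹Surjective Y.hom›, inferInstance⟩, inferInstance⟩
      (by rw [← hsq.isoPullback_inv_snd]; infer_instance)
  let U : X.Etale := Scheme.Etale.mk E.str
  let qh : D ⟶ U := MorphismProperty.Over.homMk q
    (by show q ≫ E.str = D.hom
        rw [hsq.w, MorphismProperty.Over.w π]) trivial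
  have hqs : Function.Surjective qh.left.base := by
    haveI : Surjective q := MorphismProperty.of_isPullback hsq.flip ‹Surjective Y.hom›
    exact q.surjective
  -- the section over `U`
  obtain ⟨η, hη⟩ : ∃ η : F.obj.obj (op U), res F qh η = ξ := by
    have hP : (Presieve.singleton qh).IsSheafFor (F.obj ⋙ forget AddCommGrpCat.{u + 1}) := by
      rw [Presieve.isSheafFor_iff_generate]
      exact isSheaf_forget F _ (Covers.singleton_mem qh hqs)
    rw [← Presieve.ofArrows_pUnit.{0}, Presieve.isSheafFor_arrows_iff] at hP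
    obtain ⟨η, hη, -⟩ := hP (fun _ => ξ) fun _ _ Z a b hab => by
      show res F a ξ = res F b ξ
      have hab' : a.left ≫ q = b.left ≫ q := congrArg (fun k => k.left) hab
      have hh : prodLift a (b ≫ π) ≫ psi h = b := by
        refine etale_hom_ext ?_
        have hX : (a.left ≫ π.left) ≫ Y.hom = (b.left ≫ π.left) ≫ Y.hom := by
          rw [Category.assoc, Category.assoc, MorphismProperty.Over.w π,
            MorphismProperty.Over.w a, MorphismProperty.Over.w b]
        have hrel : SGA1Desc.Rel (datum h) a.left (tr h _ _ hX ⟨a.left, rfl⟩).1 :=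
          SGA1Desc.rel_of_phi (D := datum h) (a.left ≫ π.left) (b.left ≫ π.left) hX ⟨a.left, rfl⟩
        refine hsq.hom_ext ((hcompat _ _ hrel).symm.trans hab') ?_
        exact (tr h _ _ hX ⟨a.left, rfl⟩).2
      rw [← hh, res_comp, psi_res, ← res_comp, prodLift_fst]
    exact ⟨η, hη PUnit.unit⟩
  -- auxiliary lifts
  have key : ∀ (W : X.Etale) (a : W ⟶ U), ∃ a' : prod W Y ⟶ D,
      a' ≫ π = prodSnd W Y ∧ a' ≫ qh = prodFst W Y ≫ a := by
    intro W a
    let l := hsq.lift (pullback.fst W.hom Y.hom ≫ a.left) (pullback.snd W.hom Y.hom) (by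
      rw [Category.assoc]
      exact (congrArg (pullback.fst W.hom Y.hom ≫ ·) (MorphismProperty.Over.w a)).trans
        pullback.condition)
    refine ⟨MorphismProperty.Over.homMk l ?_ trivial, etale_hom_ext (hsq.lift_snd _ _ _),
      etale_hom_ext (hsq.lift_fst _ _ _)⟩
    show l ≫ D.hom = pullback.fst W.hom Y.hom ≫ W.hom
    rw [← MorphismProperty.Over.w π, hsq.lift_snd_assoc]
    exact pullback.condition.symm
  have hfst : ∀ W : X.Etale, Surjective (prodFst W Y).left := fun W =>
    MorphismProperty.pullback_fst W.hom Y.hom ‹Surjective Y.hom›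
  have hinj : ∀ (W : X.Etale) (a b : W ⟶ U), res F a η = res F b η → a = b := by
    intro W a b hab
    obtain ⟨a', ha₁, ha₂⟩ := key W a
    obtain ⟨b', hb₁, hb₂⟩ := key W b
    have e : a' = b' := rep_ext (ha₁.trans hb₁.symm) (by
      rw [← hη, ← res_comp, ← res_comp, ha₂, hb₂, res_comp, res_comp, hab]) h
    haveI := hfst W
    haveI : Etale (prodFst W Y).left := etale_left _
    haveI : Epi (prodFst W Y).left := Flat.epi_of_flat_of_surjective _
    refine etale_hom_ext ((cancel_epi (prodFst W Y).left).1 ?_)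
    exact congrArg (fun k => k.left) (ha₂.symm.trans ((congrArg (· ≫ qh) e).trans hb₂))
  have hsurj : ∀ (W : X.Etale) (s : F.obj.obj (op W)), Q W s → ∃ a : W ⟶ U, res F a η = s := by
    intro W s hs
    obtain ⟨v, ⟨hv₁, hv₂⟩, -⟩ :=
      h.exists_unique (prod W Y) (prodSnd W Y) (res F (prodFst W Y) s) (h.stable _ _ hs)
    haveI := hfst W
    haveI : Etale (prodFst W Y).left := etale_left _
    let p := (prodFst W Y).left
    let K : X.Etale := prod W Y
    haveI : Etale (pullback.fst p p ≫ K.hom) :=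
      haveI : Etale K.hom := K.prop
      haveI : Etale p := etale_left _
      inferInstance
    let K₂ : X.Etale := Scheme.Etale.mk (pullback.fst p p ≫ K.hom)
    let k₁ : K₂ ⟶ K := MorphismProperty.Over.homMk (pullback.fst p p) rfl trivial
    let k₂ : K₂ ⟶ K := MorphismProperty.Over.homMk (pullback.snd p p) (by
      show pullback.snd p p ≫ K.hom = pullback.fst p p ≫ K.hom
      rw [← MorphismProperty.Over.w (prodFst W Y)]
      exact pullback.condition_assoc _ |>.symm) trivial
    have hk : k₁ ≫ prodFst W Y = k₂ ≫ prodFst W Y := etale_hom_ext pullback.condition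
    have hc : k₁ ≫ v ≫ qh = k₂ ≫ v ≫ qh := hinj K₂ _ _ (by
      rw [res_comp, res_comp, res_comp, res_comp, hη, hv₂, ← res_comp, ← res_comp, hk])
    let a₀ : W.left ⟶ U.left := EffectiveEpi.desc p (v ≫ qh).left fun {Z} g₁ g₂ hg => by
      have := congrArg (fun k => pullback.lift g₁ g₂ hg ≫ k) (congrArg (fun k => k.left) hc)
      exact (pullback.lift_fst_assoc g₁ g₂ hg (v ≫ qh).left).symm.trans
        (this.trans (pullback.lift_snd_assoc g₁ g₂ hg (v ≫ qh).left))
    have ha₀ : p ≫ a₀ = (v ≫ qh).left := EffectiveEpi.fac _ _ _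
    haveI : Epi p := Flat.epi_of_flat_of_surjective _
    let a : W ⟶ U := MorphismProperty.Over.homMk a₀ (by
      rw [← cancel_epi p]
      exact (reassoc_of% ha₀) _ |>.trans ((MorphismProperty.Over.w (v ≫ qh)).trans
        (MorphismProperty.Over.w (prodFst W Y)).symm)) trivial
    refine ⟨a, res_injective F (prodFst W Y) p.surjective ?_⟩
    rw [← res_comp, show prodFst W Y ≫ a = v ≫ qh from etale_hom_ext ha₀, res_comp, hη, hv₂]
  exact ⟨U, ‹IsFinite E.str›, η, hQ qh η hqs (by rw [hη]; exact h.mem), hinj, hsurj⟩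

/-- A locally representable sheaf is representable when the representing scheme is finite. -/
theorem exists_repr {ξ : F.obj.obj (op D)} [Surjective Y.hom] [IsFinite π.left] (h : Rep F π ξ) :
    ∃ (U : X.Etale) (_ : IsFinite U.hom),
      Nonempty (F.obj ⋙ forget AddCommGrpCat.{u + 1} ≅ yoneda.obj U ⋙ uliftFunctor.{u + 1}) := by
  obtain ⟨U, hU, η, -, hinj, hsurj⟩ := exists_repr' h fun _ _ _ _ => trivial
  refine ⟨U, hU, ⟨(NatIso.ofComponents (fun W =>
    (Equiv.ulift.trans (Equiv.ofBijective (fun a : W.unop ⟶ U => res F a η)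
      ⟨fun a b => hinj W.unop a b, fun s => hsurj W.unop s trivial⟩)).toIso) ?_).symm⟩⟩
  intro W W' k
  ext a
  exact res_comp F k.unop a.down η

end Groth.Agent.LccRepLib
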