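import Groth.Agent.LccRepLib.Trivialise
import Groth.Agent.EtUnitConst.Normal
import Groth.Agent.EtaleSite.OpenImm

/-!
# Extending trivialisations over normal schemes
-/

set_option autoImplicit false
set_option linter.style.haveILetI false
set_option backward.isDefEq.respectTransparency.types false
set_option backward.isDefEq.respectTransparency false

universe u

open CategoryTheory CategoryTheory.Limits AlgebraicGeometry Opposite

noncomputable section

namespace Groth.Agent.LccRepLib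

open Groth.Agent Groth.Agent.EtaleSite

variable {X : Scheme.{u}}

/-- A sheaf whose inverse image to an étale scheme is constant is trivialised there. -/
theorem exists_isTriv_of_pull_etale {F : EtCoh.Ab X} (V : X.Etale) {M : Type (u + 1)} [AddCommGroup M]
    (e : (EtCoh.pull V.hom).obj F ≅ EtConsAb.constAb M V.left) :
    ∃ m : M →+ F.obj.obj (op V), EtConsAb.IsTriv F V M m := by
  haveI : Etale V.hom := V.prop
  let G := (EtShriek.restrAlong V.hom).obj F
  let E : EtConsAb.constAb M V.left ≅ G := e.symm ≪≫ (pullIsoRestrAlong V.hom).app F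
  let T := EtCoh.top V.left
  let n : M →+ G.obj.obj (op T) := (E.hom.hom.app (op T)).hom.comp (EtConsAb.constSect M T)
  have hn : EtConsAb.IsTriv G T M n := (EtConsAb.isTriv_constSect M T).of_iso E
  let c : V ⟶ (EtShriek.compEtale V.hom).obj T :=
    MorphismProperty.Over.homMk (𝟙 V.left)
      (by show 𝟙 V.left ≫ 𝟙 V.left ≫ V.hom = V.hom; simp) trivial
  refine ⟨(F.obj.map c.op).hom.comp n, fun Ω _ _ ξ φ => ?_⟩
  let η : Spec (CommRingCat.of Ω) ⟶ V.left := φ.left
  obtain ⟨φT, -⟩ : ∃ t : (Scheme.pointSmallEtale η).fiber.obj T, t.left = η :=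
    ⟨Over.homMk η (Category.comp_id _), rfl⟩
  have hT : ∀ t : (Scheme.pointSmallEtale η).fiber.obj T, t = φT := fun t =>
    Over.OverMorphism.ext ((Category.comp_id _).symm.trans ((Over.w t).trans
      ((Over.w φT).symm.trans (Category.comp_id _))))
  -- étale schemes over `V` as étale schemes over `V.left`
  let lift : ∀ {W : X.Etale} (g : W ⟶ V), V.left.Etale := fun {W} g =>
    haveI : Etale g.left := etale_left g
    Scheme.Etale.mk g.left
  let d : ∀ {W : X.Etale} (g : W ⟶ V), (EtShriek.compEtale V.hom).obj (lift g) ⟶ W :=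
    fun {W} g => MorphismProperty.Over.homMk (𝟙 W.left)
      (by show 𝟙 W.left ≫ W.hom = g.left ≫ V.hom; rw [Category.id_comp, MorphismProperty.Over.w g])
      trivial
  let toT : ∀ {W : X.Etale} (g : W ⟶ V), lift g ⟶ T := fun {W} g =>
    MorphismProperty.Over.homMk g.left (by exact Category.comp_id g.left) trivial
  have hd : ∀ {W : X.Etale} (g : W ⟶ V), (EtShriek.compEtale V.hom).map (toT g) = d g ≫ g ≫ c :=
    fun {W} g => etale_hom_ext (by
      show g.left = 𝟙 W.left ≫ g.left ≫ 𝟙 V.left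
      simp)
  have hval : ∀ {W : X.Etale} (g : W ⟶ V) (a : M), G.obj.map (toT g).op (n a) =
      F.obj.map (d g).op (res F g (F.obj.map c.op (n a))) := fun {W} g a => by
    show F.obj.map ((EtShriek.compEtale V.hom).map (toT g)).op (n a) = _
    rw [hd g]
    exact (res_comp F (d g) (g ≫ c) (n a)).trans (congrArg (res F (d g)) (res_comp F g c (n a)))
  refine ⟨fun a b hab => ?_, fun p => ?_⟩
  · obtain ⟨W, g, ψ, hψ, he⟩ := (germ_eq_iff ξ F V φ _ _).1 hab
    have hl : ψ.left ≫ g.left = η := congrArg CommaMorphism.left hψ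
    let ψ' : (Scheme.pointSmallEtale η).fiber.obj (lift g) := Over.homMk ψ.left hl
    refine (hn Ω η φT).1 ?_
    show germ η G T φT (n a) = germ η G T φT (n b)
    rw [show φT = (Scheme.pointSmallEtale η).fiber.map (toT g) ψ' from (hT _).symm,
      ← germ_res, ← germ_res]
    refine congrArg (germ η G (lift g) ψ') ?_
    rw [hval, hval]
    exact congrArg (F.obj.map (d g).op) he
  · obtain ⟨W, g, w, s, hw, rfl⟩ := EtConsAb.exists_germ_eq_refine φ F p
    have hl : w.left ≫ g.left = η := congrArg CommaMorphism.left hw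
    let ψ' : (Scheme.pointSmallEtale η).fiber.obj (lift g) := Over.homMk w.left hl
    obtain ⟨a, ha⟩ := (hn Ω η φT).2 (germ η G (lift g) ψ' (F.obj.map (d g).op s))
    refine ⟨a, ?_⟩
    have h1 : germ η G (lift g) ψ' (G.obj.map (toT g).op (n a)) =
        germ η G (lift g) ψ' (F.obj.map (d g).op s) := by
      rw [germ_res, show (Scheme.pointSmallEtale η).fiber.map (toT g) ψ' = φT from hT _]
      exact ha
    rw [hval] at h1
    obtain ⟨W', k, χ, hχ, hk⟩ := (germ_eq_iff η G (lift g) ψ' _ _).1 h1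
    let k' : (EtShriek.compEtale V.hom).obj W' ⟶ W := (EtShriek.compEtale V.hom).map k ≫ d g
    have hkl : χ.left ≫ k.left = w.left := congrArg CommaMorphism.left hχ
    have hχw : χ.left ≫ W'.hom = η := Over.w χ
    let χ' : (Scheme.pointSmallEtale ξ).fiber.obj ((EtShriek.compEtale V.hom).obj W') :=
      Over.homMk χ.left (by
        show χ.left ≫ W'.hom ≫ V.hom = ξ
        rw [reassoc_of% hχw]
        exact Over.w φ)
    have hχ' : (Scheme.pointSmallEtale ξ).fiber.map k' χ' = w := Over.OverMorphism.ext (by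
      show χ.left ≫ k.left ≫ 𝟙 W.left = w.left
      exact (congrArg (χ.left ≫ ·) (Category.comp_id k.left)).trans hkl)
    show germ ξ F V φ (F.obj.map c.op (n a)) = germ ξ F W w s
    rw [← hw, ← germ_res, ← hχ', ← germ_res, ← germ_res]
    exact congrArg (germ ξ F _ χ') ((res_comp F _ (d g) _).trans
      (hk.trans (res_comp F _ (d g) _).symm))

variable [IsIntegral X] (hN : ∀ x : X, IsIntegrallyClosed (X.presheaf.stalk x))

include hN in
/-- Over a normal integral scheme, trivialisations of a sheaf on a nonempty open give trivialisations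
of its direct image. -/
theorem isTriv_push (U : X.Opens) (hU : (U : Set X).Nonempty) {F : EtCoh.Ab ↑U} {V : X.Etale}
    {M : Type (u + 1)} [AddCommGroup M] {m : M →+ F.obj.obj (op ((EtCoh.bc U.ι).obj V))}
    (hm : EtConsAb.IsTriv F ((EtCoh.bc U.ι).obj V) M m) :
    EtConsAb.IsTriv ((EtCoh.push U.ι).obj F) V M m := by
  intro Ω _ _ ξ φ
  let m' : ∀ {W : X.Etale} (g : W ⟶ V), M →+ F.obj.obj (op ((EtCoh.bc U.ι).obj W)) := fun {W} g =>
    (F.obj.map ((EtCoh.bc U.ι).map g).op).hom.comp m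
  have hm' : ∀ {W : X.Etale} (g : W ⟶ V), EtConsAb.IsTriv F ((EtCoh.bc U.ι).obj W) M (m' g) :=
    fun {W} g => hm.restrict ((EtCoh.bc U.ι).map g)
  -- a nonempty étale scheme has points over `U`
  have hne : ∀ (W : X.Etale) (D : W.left.Opens), (D : Set W.left).Nonempty →
      ∃ y : ((EtCoh.bc U.ι).obj W).left, pullback.fst W.hom U.ι y ∈ D := by
    intro W D hD
    obtain ⟨x, hx, hxU⟩ := EtUnitConst.exists_mem_over W D hD U hU
    obtain ⟨y, hy, -⟩ := Scheme.Pullback.exists_preimage_pullback (f := W.hom) (g := U.ι) x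
      ⟨_, hxU⟩ rfl
    exact ⟨y, hy.symm ▸ hx⟩
  have hpt : ∀ {Z : (U : Scheme.{u}).Etale} (y : Z.left),
      ∃ ψ : (Scheme.pointSmallEtale (geomPointAt (U : Scheme.{u}) (Z.hom y))).fiber.obj Z,
        ψ.left (default : Spec (CommRingCat.of _)) = y := fun {Z} y =>
    exists_fiber_point _ Z y (geomPointAt_apply _ (Z.hom y) _).symm
  refine ⟨fun a b hab => ?_, fun p => ?_⟩
  · obtain ⟨W, g, ψ, -, he⟩ := (germ_eq_iff ξ ((EtCoh.push U.ι).obj F) V φ _ _).1 hab
    obtain ⟨y, -⟩ := hne W ⊤ ⟨ψ.left (default : Spec (CommRingCat.of Ω)), trivial⟩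
    obtain ⟨χ, -⟩ := hpt y
    exact (hm' g _ _ χ).1 (congrArg (germ _ F _ χ) he)
  · obtain ⟨W₀, g₀, w, s₀, hw, rfl⟩ :=
      EtConsAb.exists_germ_eq_refine φ ((EtCoh.push U.ι).obj F) p
    let v := w.left (default : Spec (CommRingCat.of Ω))
    obtain ⟨N, hNo, hvN, hNi⟩ := EtUnitConst.exists_irreducible_nhd hN W₀ v
    let O : W₀.left.Opens := ⟨N, hNo⟩
    let W := piece W₀ O
    let i : W ⟶ W₀ := pieceHom W₀ O
    obtain ⟨w', hw'⟩ := exists_fiber_lift ξ i w (⟨v, hvN⟩ : O) rfl
    let Z := (EtCoh.bc U.ι).obj W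
    let g := i ≫ g₀
    let s : F.obj.obj (op Z) := res ((EtCoh.push U.ι).obj F) i s₀
    haveI : PreirreducibleSpace W.left := Subtype.preirreducibleSpace hNi.isPreirreducible
    haveI hirr : PreirreducibleSpace Z.left := ⟨by
      have h := (PreirreducibleSpace.isPreirreducible_univ (X := W.left)).preimage
        (pullback.fst W.hom U.ι).isOpenEmbedding
      rwa [Set.preimage_univ] at h⟩
    let A : M → Set Z.left := fun a =>
      {y | ∃ (T : (U : Scheme.{u}).Etale) (k : T ⟶ Z) (t : T.left),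
        k.left t = y ∧ res F k s = res F k (m' g a)}
    have hA : ∀ a, IsOpen (A a) := fun a => by
      rw [isOpen_iff_forall_mem_open]
      rintro y ⟨T, k, t, ht, hk⟩
      haveI : Etale k.left := etale_left k
      exact ⟨Set.range k.left, fun _ ⟨t', ht'⟩ => ⟨T, k, t', ht', hk⟩,
        k.left.isOpenMap.isOpen_range, t, ht⟩
    have hgerm : ∀ a (Ω' : Type u) [Field Ω'] [IsSepClosed Ω'] (ζ : Spec (CommRingCat.of Ω') ⟶ U)
        (ψ : (Scheme.pointSmallEtale ζ).fiber.obj Z),
        ψ.left (default : Spec (CommRingCat.of Ω')) ∈ A a →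
          germ ζ F Z ψ s = germ ζ F Z ψ (m' g a) := by
      intro a Ω' _ _ ζ ψ ⟨T, k, t, ht, hk⟩
      obtain ⟨χ, hχ⟩ := exists_fiber_lift ζ k ψ t ht
      rw [← hχ, ← germ_res, ← germ_res]
      exact congrArg (germ ζ F T χ) hk
    have hcov : ∀ y, ∃ a, y ∈ A a := fun y => by
      obtain ⟨χ, hχ⟩ := hpt y
      obtain ⟨a, ha⟩ := (hm' g _ _ χ).2 (germ _ F Z χ s)
      obtain ⟨T, k, τ, hτ, hk⟩ := (germ_eq_iff _ F Z χ _ _).1 ha.symm
      exact ⟨a, T, k, τ.left (default : Spec (CommRingCat.of _)),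
        (congrArg (fun q => q.left (default : Spec (CommRingCat.of _))) hτ).trans hχ, hk⟩
    obtain ⟨y₀, -⟩ := hne W ⊤ ⟨⟨v, hvN⟩, trivial⟩
    obtain ⟨a, ha⟩ := hcov y₀
    have hall : ∀ y, y ∈ A a := fun y => by
      obtain ⟨b, hb⟩ := hcov y
      obtain ⟨z, hza, hzb⟩ := nonempty_preirreducible_inter (hA a) (hA b) ⟨y₀, ha⟩ ⟨y, hb⟩
      obtain ⟨χ, hχ⟩ := hpt z
      have h1 := (hgerm a _ _ χ (hχ.symm ▸ hza)).symm.trans (hgerm b _ _ χ (hχ.symm ▸ hzb))
      obtain rfl := (hm' g _ _ χ).1 h1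
      exact hb
    have hs : s = m' g a := sect_ext s _ fun Ω' _ _ ζ ψ => hgerm a Ω' ζ ψ (hall _)
    refine ⟨a, ?_⟩
    show germ ξ ((EtCoh.push U.ι).obj F) V φ (m a) = germ ξ ((EtCoh.push U.ι).obj F) W₀ w s₀
    rw [← hw, ← hw', ← germ_res, ← germ_res, ← germ_res]
    refine congrArg (germ ξ ((EtCoh.push U.ι).obj F) W w') ?_
    refine Eq.trans ?_ hs.symm
    exact ((res_comp ((EtCoh.push U.ι).obj F) i g₀ (m a)).symm)

end Groth.Agent.LccRepLib
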