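import Groth.Agent.FEtCat.NormalizationGeneric

/-!
# The normalization in an open subscheme of a normal integral scheme
-/

set_option backward.isDefEq.respectTransparency.types false
set_option autoImplicit false

universe u

open CategoryTheory CategoryTheory.Limits AlgebraicGeometry

noncomputable section

namespace Groth.Agent.LccRepLib

open Groth.Agent.FEtCat

/-- A normal integral scheme, integral over the base, containing a nonempty scheme as an open
subscheme, is the normalization of the base in that scheme. -/
theorem isIso_normalizationDesc_of_open {P T Y : Scheme.{u}} [IsIntegral T] [IsIntegral P]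
    (hT : Pi1.IsNormalScheme T) (f : P ⟶ Y) [QuasiCompact f] [QuasiSeparated f]
    (h : P ⟶ T) [IsOpenImmersion h]
    (g : T ⟶ Y) [IsIntegralHom g] (H : f = h ≫ g) : IsIso (f.normalizationDesc h g H) := by
  have hh : h (genericPoint P) = genericPoint T := genericPoint_eq_of_isOpenImmersion h
  let d := f.normalizationDesc h g H
  have hd : f.toNormalization ≫ d = h := f.toNormalization_normalizationDesc h g H
  refine (IsZariskiLocalAtTarget.iff_of_iSup_eq_top (P := MorphismProperty.isomorphisms Scheme.{u}) _
    (iSup_affineOpens_eq_top T)).mpr fun ⟨U, hU⟩ => ?_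
  change IsIso (d ∣_ U)
  by_cases hUe : (U : Set T) = ∅
  · have : IsEmpty (U : Scheme.{u}) := ⟨fun x => (Set.ext_iff.mp hUe x.1).mp x.2⟩
    infer_instance
  have hη : genericPoint T ∈ U := by
    obtain ⟨x, hx⟩ := Set.nonempty_iff_ne_empty.mpr hUe
    exact (genericPoint_specializes x).mem_open U.2 hx
  have : Nonempty (U : Scheme.{u}) := ⟨⟨_, hη⟩⟩
  have hW : IsAffineOpen (d ⁻¹ᵁ U) := hU.preimage d
  have : IsAffine (U : Scheme.{u}) := hU
  have : IsAffine ↑(d ⁻¹ᵁ U) := hW
  suffices hb : Function.Bijective (d.app U).hom by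
    have : IsIso (d.app U) := (ConcreteCategory.isIso_iff_bijective _).mpr hb
    have : IsIso (d.app (U.ι ''ᵁ ⊤)) := by rw [U.ι_image_top]; infer_instance
    have : IsIso (d ∣_ U).appTop := by
      rw [morphismRestrict_appTop]
      exact IsIso.comp_isIso' ‹_› (Functor.map_isIso _ _)
    exact ((MorphismProperty.isomorphisms Scheme.{u}).arrow_mk_iso_iff (arrowIsoSpecΓOfIsAffine (d ∣_ U))).mpr
      (inferInstanceAs (IsIso (Spec.map (d ∣_ U).appTop)))
  let K := T.functionField
  have hs : Function.Bijective (h.stalkMap (genericPoint P)).hom :=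
    ConcreteCategory.bijective_of_isIso _
  let e := RingEquiv.ofBijective _ hs
  have hn : genericPoint P ∈ f.toNormalization ⁻¹ᵁ d ⁻¹ᵁ U := by
    change d (f.toNormalization (genericPoint P)) ∈ U
    rw [← Scheme.Hom.comp_apply, hd, hh]
    exact hη
  let γ : Γ(f.normalization, d ⁻¹ᵁ U) →+* T.presheaf.stalk (h (genericPoint P)) :=
    e.symm.toRingHom.comp (((P).presheaf.germ _ (genericPoint P) hn).hom.comp
      (f.toNormalization.app (d ⁻¹ᵁ U)).hom)
  have hη' : h (genericPoint P) ∈ U := hh ▸ hη
  have hcomp : ∀ r, γ ((d.app U).hom r) = T.presheaf.germ U (h (genericPoint P)) hη' r := fun r => by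
    apply e.injective
    refine (e.apply_symm_apply _).trans ?_
    change _ = h.stalkMap (genericPoint P) (T.presheaf.germ U (h (genericPoint P)) hη' r)
    rw [Scheme.Hom.germ_stalkMap_apply, Scheme.Hom.congr_app hd.symm U, Scheme.Hom.comp_app,
      CommRingCat.comp_apply, TopCat.Presheaf.germ_res_apply]
    rfl
  have hγ : Function.Injective γ := by
    have hk := f.ker_toNormalization
    have h1 := congrArg (fun I : Scheme.IdealSheafData f.normalization => I.ideal ⟨_, hW⟩) hk
    simp only [Scheme.Hom.ker_apply, Scheme.IdealSheafData.ideal_bot, Pi.bot_apply] at h1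
    exact e.symm.injective.comp ((germ_injective_of_isIntegral (P) (genericPoint P) hn).comp
      ((RingHom.injective_iff_ker_eq_bot _).mpr h1))
  have hg : Function.Injective (T.presheaf.germ U (h (genericPoint P)) hη') :=
    germ_injective_of_isIntegral T (h (genericPoint P)) hη'
  refine ⟨fun a b hab => hg ((hcomp a).symm.trans ((congrArg γ hab).trans (hcomp b))), fun x => ?_⟩
  have hint : (d.app U).hom.IsIntegralElem x := IsIntegralHom.isIntegral_app d U hU x
  obtain ⟨p, hp, hpx⟩ := hint
  have hint' : (T.presheaf.germ U (h (genericPoint P)) hη').hom.IsIntegralElem (γ x) := by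
    refine ⟨p, hp, ?_⟩
    have := congrArg γ hpx
    rw [Polynomial.hom_eval₂, map_zero] at this
    rw [show (T.presheaf.germ U (h (genericPoint P)) hη').hom = γ.comp (d.app U).hom from
      RingHom.ext fun r => (hcomp r).symm]
    exact this
  have key : ∀ (y : T) (hy : y ∈ U), y = genericPoint T → ∀ z : T.presheaf.stalk y,
      (T.presheaf.germ U y hy).hom.IsIntegralElem z → ∃ r, T.presheaf.germ U y hy r = z := by
    intro y hy hyη z hz
    subst hyη
    have : IsIntegrallyClosed Γ(T, U) := NormalSec.isIntegrallyClosed_sections U (fun y _ => (hT y).1) (fun y _ => (hT y).2) fun b hb y hy h0 =>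
        hb (germ_injective_of_isIntegral T y hy (h0.trans (map_zero _).symm))
    let := TopCat.Presheaf.algebra_section_stalk T.presheaf (⟨genericPoint T, hy⟩ : U)
    have := functionField_isFractionRing_of_isAffineOpen T U hU
    exact IsIntegrallyClosed.isIntegral_iff.mp (hz : IsIntegral Γ(T, U) z)
  obtain ⟨r, hr⟩ := key _ hη' hh _ hint'
  exact ⟨r, hγ ((hcomp r).trans hr)⟩

end Groth.Agent.LccRepLib
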