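import Groth.Agent.S0107
import Groth.Agent.EtLocConst.Basic
import Groth.Agent.EtConsAb.ConstMod
import Groth.Agent.EtConsAb.PullTriv
import Groth.Agent.EtaleSite.ConstSections

/-!
# Finite étale trivialisation of finite locally constant sheaves
-/

set_option autoImplicit false
set_option linter.style.haveILetI false
set_option backward.isDefEq.respectTransparency.types false
set_option backward.isDefEq.respectTransparency false

universe u

open CategoryTheory CategoryTheory.Limits AlgebraicGeometry Opposite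

noncomputable section

namespace Groth.Agent.LccRepLib

open Groth.Agent Groth.Agent.EtaleSite

variable {X : Scheme.{u}} {F : EtCoh.Ab X}

/-- A representing object gives a section through which all sections factor. -/
theorem exists_versal (hF : EtCoh.IsFiniteLocallyConstant F) :
    ∃ (U : X.Etale) (_ : IsFinite U.hom) (η : F.obj.obj (op U)),
      ∀ (W : X.Etale) (s : F.obj.obj (op W)), ∃ a : W ⟶ U, res F a η = s := by
  obtain ⟨U, hU, ⟨e⟩⟩ := Groth.Agent.S0107.result F hF
  let z : (yoneda.obj U ⋙ uliftFunctor.{u + 1}).obj (op U) := ULift.up.{u + 1, u} (𝟙 U : U ⟶ U)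
  let η : F.obj.obj (op U) := e.inv.app (op U) z
  refine ⟨U, hU, η, fun W s => ⟨(e.hom.app (op W) s).down, ?_⟩⟩
  have h := NatTrans.naturality_apply e.inv (e.hom.app (op W) s).down.op z
  refine h.symm.trans ?_
  refine Eq.trans (congrArg (e.inv.app (op W)) (?_ : _ = e.hom.app (op W) s))
    (ConcreteCategory.congr_hom (Iso.hom_inv_id_app e (op W)) s)
  refine ULift.ext _ _ ?_
  show (e.hom.app (op W) s).down ≫ 𝟙 U = (e.hom.app (op W) s).down
  rw [Category.comp_id]

/-- There is a finite étale scheme with a versal finite family of sections. -/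
theorem exists_versal_family (hF : EtCoh.IsFiniteLocallyConstant F) (n : ℕ) :
    ∃ (P : X.Etale) (_ : IsFinite P.hom) (t : Fin n → F.obj.obj (op P)),
      ∀ (W : X.Etale) (s : Fin n → F.obj.obj (op W)), ∃ a : W ⟶ P, ∀ i, res F a (t i) = s i := by
  induction n with
  | zero =>
    refine ⟨EtCoh.top X, inferInstanceAs (IsFinite (𝟙 X)), finZeroElim, fun W s =>
      ⟨(EtCore.topIsTerminal X).from W, fun i => i.elim0⟩⟩
  | succ n ih =>
    obtain ⟨P, hP, t, ht⟩ := ih
    obtain ⟨U, hU, η, hη⟩ := exists_versal hF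
    haveI : IsFinite (prod U P).hom :=
      inferInstanceAs (IsFinite (pullback.fst U.hom P.hom ≫ U.hom))
    refine ⟨prod U P, inferInstance,
      Fin.cons (res F (prodFst U P) η) fun i => res F (prodSnd U P) (t i), fun W s => ?_⟩
    obtain ⟨a, ha⟩ := hη W (s 0)
    obtain ⟨b, hb⟩ := ht W fun i => s i.succ
    refine ⟨prodLift a b, Fin.cases ?_ fun i => ?_⟩
    · rw [Fin.cons_zero, ← res_comp, prodLift_fst, ha]
    · rw [Fin.cons_succ, ← res_comp, prodLift_snd, hb]

/-- Trivialisations with one value group near every geometric point of a connected scheme. -/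
theorem exists_uniform [ConnectedSpace X] (hF : EtCoh.IsFiniteLocallyConstant F) :
    ∃ (M : Type (u + 1)) (_ : AddCommGroup M) (_ : Finite M),
      ∀ x : X, ∃ (V : X.Etale) (v : V.left) (m : M →+ F.obj.obj (op V)),
        V.hom v = x ∧ EtConsAb.IsTriv F V M m := by
  obtain ⟨M, _, _, ι, U, hU, he⟩ := EtLocConst.exists_single_group hF
  refine ⟨ULift.{u + 1} M, inferInstance, inferInstance, fun x => ?_⟩
  obtain ⟨i, v, hv⟩ := hU x
  obtain ⟨m, hm⟩ := EtConsAb.exists_isTriv_of_restrIso (he i).some
  exact ⟨U i, v, m, hv, hm⟩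

/-- A finite locally constant sheaf on a connected scheme is trivialised by a finite étale
surjective morphism. -/
theorem exists_finite_etale_triv [ConnectedSpace X] (hF : EtCoh.IsFiniteLocallyConstant F) :
    ∃ (W : X.Etale) (_ : IsFinite W.hom) (_ : Surjective W.hom) (M : Type (u + 1))
      (_ : AddCommGroup M) (_ : Finite M) (m : M →+ F.obj.obj (op W)),
      EtConsAb.IsTriv F W M m := by
  classical
  obtain ⟨M, _, _, htriv⟩ := exists_uniform hF
  obtain ⟨n, ⟨e⟩⟩ := Finite.exists_equiv_fin M
  obtain ⟨P, hP, t, ht⟩ := exists_versal_family hF n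
  -- the locus where the family is a trivialisation
  let Good : P.left → Prop := fun w => ∃ (W : X.Etale) (k : W ⟶ P) (y : W.left)
    (m : M →+ F.obj.obj (op W)), k.left y = w ∧ EtConsAb.IsTriv F W M m ∧
      ∀ a, res F k (t (e a)) = m a
  have hopen : IsOpen {w | Good w} := by
    rw [isOpen_iff_forall_mem_open]
    rintro w ⟨W, k, y, m, hy, hm, hk⟩
    haveI : Etale k.left := etale_left k
    exact ⟨Set.range k.left, fun _ ⟨y', hy'⟩ => ⟨W, k, y', m, hy', hm, hk⟩,
      k.left.isOpenMap.isOpen_range, y, hy⟩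
  have hclosed : IsClosed {w | Good w} := by
    rw [← isOpen_compl_iff, isOpen_iff_forall_mem_open]
    intro w hw
    obtain ⟨V, v, m₀, hv, hm₀⟩ := htriv (P.hom w)
    let ζ := geomPointAt X (P.hom w)
    obtain ⟨φ, hφ⟩ := exists_fiber_point ζ P w (geomPointAt_apply X (P.hom w) _).symm
    obtain ⟨ψ, -⟩ := exists_fiber_point ζ V v (hv.trans (geomPointAt_apply X (P.hom w) _).symm)
    obtain ⟨W, χ, p, q, hp, -⟩ := EtConsAb.exists_refine φ ψ
    have hsur := fun a => (hm₀.restrict q _ ζ χ).2 (germ ζ F W χ (res F p (t (e a))))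
    choose f hf using hsur
    obtain ⟨W', g, χ', hg, heq⟩ := EtConsAb.exists_nbhd_eq_of_finite F χ
      (fun a => res F p (t (e a))) (fun a => (F.obj.map q.op).hom.comp m₀ (f a))
      (fun a => (hf a).symm)
    let k := g ≫ p
    let m₁ : M →+ F.obj.obj (op W') :=
      (F.obj.map g.op).hom.comp ((F.obj.map q.op).hom.comp m₀)
    have hm₁ : EtConsAb.IsTriv F W' M m₁ := (hm₀.restrict q).restrict g
    have hk : ∀ a, res F k (t (e a)) = m₁ (f a) := fun a =>
      (res_comp F g p _).trans (heq a)
    haveI : Etale k.left := etale_left k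
    refine ⟨Set.range k.left, ?_, k.left.isOpenMap.isOpen_range,
      χ'.left (default : Spec (CommRingCat.of _)), ?_⟩
    · rintro w' ⟨y, rfl⟩ ⟨W₂, k₂, y₂, m₂, hy₂, hm₂, hk₂⟩
      let ζ' := geomPointAt X (P.hom (k.left y))
      obtain ⟨φ', hφ'⟩ := exists_fiber_point ζ' P (k.left y) (geomPointAt_apply X _ _).symm
      obtain ⟨α, hα⟩ := exists_fiber_lift ζ' k φ' y hφ'.symm
      obtain ⟨β, hβ⟩ := exists_fiber_lift ζ' k₂ φ' y₂ (hy₂.trans hφ'.symm)
      let B := hm₁.stalkEquiv α
      let C := hm₂.stalkEquiv β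
      have hBC : ∀ a, B (f a) = C a := fun a => by
        show germ ζ' F W' α (m₁ (f a)) = germ ζ' F W₂ β (m₂ a)
        rw [← hk a, ← hk₂ a, germ_res, germ_res, hα, hβ]
      -- then the family is a trivialisation near `w`
      let T : M ≃+ M := C.trans B.symm
      have hT : ∀ a, T a = f a := fun a => by
        show B.symm (C a) = f a
        rw [← hBC a, AddEquiv.symm_apply_apply]
      refine hw ⟨W', k, χ'.left (default : Spec (CommRingCat.of _)),
        m₁.comp T.toAddMonoidHom, ?_, fun Ω _ _ ξ φ₀ => ?_, fun a => ?_⟩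
      · have h1 : (Scheme.pointSmallEtale ζ).fiber.map k χ' = φ := by
          rw [EtConsAb.fiber_map_comp, hg, hp]
        exact (congrArg (fun z => z.left (default : Spec (CommRingCat.of _))) h1).trans hφ
      · exact (hm₁ Ω ξ φ₀).comp T.bijective
      · rw [hk a, ← hT a]; rfl
    · have h1 : (Scheme.pointSmallEtale ζ).fiber.map k χ' = φ := by
        rw [EtConsAb.fiber_map_comp, hg, hp]
      exact (congrArg (fun z => z.left (default : Spec (CommRingCat.of _))) h1).trans hφ
  let G : P.left.Opens := ⟨{w | Good w}, hopen⟩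
  haveI : IsClosedImmersion G.ι := IsClosedImmersion.of_isPreimmersion G.ι
    (by rw [Scheme.Opens.range_ι]; exact hclosed)
  haveI : IsFinite (piece P G).hom := inferInstanceAs (IsFinite (G.ι ≫ P.hom))
  let t' : M → F.obj.obj (op (piece P G)) := fun a => res F (pieceHom P G) (t (e a))
  have hloc : ∀ w : (piece P G).left, ∃ (W : X.Etale) (k : W ⟶ piece P G) (y : W.left)
      (m : M →+ F.obj.obj (op W)), k.left y = w ∧ EtConsAb.IsTriv F W M m ∧
        ∀ a, res F k (t' a) = m a := by
    intro w
    obtain ⟨W, k, y, m, hy, hm, hk⟩ := w.2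
    have hG : ∀ z, k.left z ∈ G := fun z => ⟨W, k, z, m, rfl, hm, hk⟩
    refine ⟨W, pieceLift G k hG, y, m, Subtype.ext ?_, hm, fun a => ?_⟩
    · exact (congrArg (fun q => q.left y) (pieceLift_comp G k hG)).trans hy
    · rw [← hk a]
      exact ((res_comp F _ _ _).symm.trans (congrArg (fun q => res F q _) (pieceLift_comp G k hG)))
  have hadd : ∀ a b, t' (a + b) = t' a + t' b := by
    intro a b
    have hS : Presheaf.equalizerSieve (F := F.obj) (t' (a + b)) (t' a + t' b) ∈
        X.smallEtaleTopology (piece P G) := by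
      refine mem_topology_of_forall_exists _ fun w => ?_
      obtain ⟨W, k, y, m, hy, -, hk⟩ := hloc w
      refine ⟨W, k, y, ?_, hy⟩
      show res F k (t' (a + b)) = F.obj.map k.op (t' a + t' b)
      rw [map_add]
      exact (hk (a + b)).trans ((map_add m a b).trans
        (congrArg₂ (· + ·) (hk a).symm (hk b).symm))
    exact (isSheaf_forget F _ hS).isSeparatedFor.ext fun _ _ hf => hf
  refine ⟨piece P G, inferInstance, ⟨fun x => ?_⟩, M, inferInstance, inferInstance,
    AddMonoidHom.mk' t' hadd, fun Ω _ _ ξ φ => ?_⟩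
  · obtain ⟨V, v, m₀, hv, hm₀⟩ := htriv x
    obtain ⟨a, ha⟩ := ht V fun i => m₀ (e.symm i)
    refine ⟨(⟨a.left v, V, a, v, m₀, rfl, hm₀, fun b => ?_⟩ : G), ?_⟩
    · rw [ha, Equiv.symm_apply_apply]
    · show P.hom (a.left v) = x
      exact (congrArg (fun q => q v) (MorphismProperty.Over.w a)).trans hv
  · obtain ⟨W, k, y, m, hy, hm, hk⟩ := hloc (φ.left (default : Spec (CommRingCat.of Ω)))
    obtain ⟨ψ, hψ⟩ := exists_fiber_lift ξ k φ y hy
    have h1 : (fun a => germ ξ F (piece P G) φ (AddMonoidHom.mk' t' hadd a)) =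
        fun a => germ ξ F W ψ (m a) := funext fun a => by
      show germ ξ F (piece P G) φ (t' a) = _
      rw [← hk a]
      exact (congrArg (fun z => germ ξ F _ z (t' a)) hψ.symm).trans (germ_res ξ F k ψ (t' a)).symm
    rw [h1]
    exact hm Ω ξ ψ

/-- A sheaf trivialised on the whole scheme is constant. -/
theorem exists_iso_const_of_top {M : Type (u + 1)} [AddCommGroup M]
    (m : M →+ F.obj.obj (op (EtCoh.top X))) (hm : EtConsAb.IsTriv F (EtCoh.top X) M m) :
    Nonempty (F ≅ ConstSections.cSheaf X (AddCommGrpCat.of M)) := by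
  let η : (Functor.const X.Etaleᵒᵖ).obj (AddCommGrpCat.of M) ⟶ F.obj :=
    { app := fun W => AddCommGrpCat.ofHom
        ((F.obj.map ((EtCore.topIsTerminal X).from W.unop).op).hom.comp m)
      naturality := fun W W' g => by
        ext x
        show F.obj.map ((EtCore.topIsTerminal X).from W'.unop).op (m x) =
          F.obj.map g (F.obj.map ((EtCore.topIsTerminal X).from W.unop).op (m x))
        rw [← ConcreteCategory.comp_apply, ← Functor.map_comp]
        congr 3
        exact Quiver.Hom.unop_inj ((EtCore.topIsTerminal X).hom_ext _ _) }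
  let φ : ConstSections.cSheaf X (AddCommGrpCat.of M) ⟶ F :=
    ⟨sheafifyLift X.smallEtaleTopology η F.property⟩
  have hφ : ∀ x : M, φ.hom.app (op (EtCoh.top X))
      (ConstSections.cst (EtCoh.top X) x) = m x := fun x => by
    have h := ConcreteCategory.congr_hom (congrArg (fun q => q.app (op (EtCoh.top X)))
      (toSheafify_sheafifyLift X.smallEtaleTopology η F.property)) x
    refine h.trans ?_
    show F.obj.map ((EtCore.topIsTerminal X).from (EtCoh.top X)).op (m x) = m x
    rw [(EtCore.topIsTerminal X).hom_ext ((EtCore.topIsTerminal X).from _) (𝟙 _)]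
    simp
  refine ⟨(@asIso _ _ _ _ φ (EtaleSite.isIso_of_stalk φ fun Ω _ _ ξ => ?_)).symm⟩
  let t : (Scheme.pointSmallEtale ξ).fiber.obj (EtCoh.top X) := Over.homMk ξ (Category.comp_id _)
  have h1 : Function.Bijective fun x : M =>
      EtaleSite.germ ξ (ConstSections.cSheaf X (AddCommGrpCat.of M)) (EtCoh.top X) t
        (ConstSections.cst (EtCoh.top X) x) :=
    EtConsAb.isTriv_constSect M (EtCoh.top X) Ω ξ t
  rw [ConcreteCategory.isIso_iff_bijective, ← Function.Bijective.of_comp_iff _ h1]
  have h2 := hm Ω ξ t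
  convert h2 using 1
  funext x
  show (EtCoh.stalk ξ).map φ (germ ξ _ _ t (ConstSections.cst (EtCoh.top X) x)) = _
  rw [germ_naturality, hφ]

/-- A trivialised sheaf becomes constant on the trivialising object. -/
theorem exists_iso_const_pull {W : X.Etale} {M : Type (u + 1)} [AddCommGroup M]
    (m : M →+ F.obj.obj (op W)) (hm : EtConsAb.IsTriv F W M m) :
    Nonempty ((EtCoh.pull W.hom).obj F ≅ ConstSections.cSheaf W.left (AddCommGrpCat.of M)) := by
  let d : EtCoh.top W.left ⟶ (EtCoh.bc W.hom).obj W :=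
    MorphismProperty.Over.homMk (pullback.lift (𝟙 W.left) (𝟙 W.left) rfl) (pullback.lift_snd _ _ _)
      trivial
  exact exists_iso_const_of_top _ ((hm.pull W.hom).restrict d)

end Groth.Agent.LccRepLib
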